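import Cfsg.Agent.Lib.TC.D.SuzH.Tab

namespace Cfsg.Agent.Lib.TC.D.SuzH.Lev

open Cfsg.Agent.Lib.TC.Core Cfsg.Agent.Lib.TC.Enc Cfsg.Agent.Lib.TC.Pres Cfsg.Agent.Lib.TC.Perm Cfsg.Agent.Lib.TC.Main Cfsg.Agent.Lib.TC.Chain Cfsg.Agent.Lib.TC.SubPres Cfsg.Agent.Lib.TC.Iso

set_option maxRecDepth 100000

open Cfsg.Agent.Lib.TC.D.SuzH.Tab Cfsg.Agent.Lib.TC.Chain.PermLev

/-- The levels of a chain of stabilizers. -/
def levels : List Lev :=
  [⟨38,
   [[0],
    [1],
    [2],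
    [3],
    [4]],
   [(60,38,0),
    (57,38,3),
    (62,38,4),
    (75,60,1),
    (81,60,3),
    (86,60,4),
    (83,57,4),
    (88,62,3),
    (98,75,0),
    (100,75,3),
    (102,75,4),
    (108,81,4),
    (113,86,3),
    (110,83,3),
    (116,88,2),
    (129,98,1),
    (126,98,3),
    (128,98,4),
    (131,100,4),
    (133,102,3),
    (139,108,3),
    (147,113,2),
    (142,110,2),
    (153,116,1),
    (152,116,3),
    (166,129,2),
    (169,129,4),
    (165,126,4),
    (168,128,3),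
    (171,131,3),
    (174,133,2),
    (183,139,2),
    (198,147,1),
    (197,147,3),
    (190,142,1),
    (189,142,3),
    (207,153,3),
    (206,152,4),
    (225,166,4),
    (228,169,3),
    (224,165,3),
    (227,168,2),
    (231,171,2),
    (237,174,1),
    (236,174,3),
    (251,183,1),
    (250,183,3),
    (274,198,0),
    (273,198,3),
    (272,197,4),
    (263,190,3),
    (261,189,2),
    (262,189,4),
    (285,207,2),
    (286,207,4),
    (302,225,3),
    (301,224,2),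
    (309,231,1),
    (308,231,3),
    (257,237,0),
    (254,237,3),
    (282,236,4),
    (330,251,0),
    (329,251,3),
    (328,250,4),
    (351,274,3),
    (204,273,2),
    (350,273,4),
    (342,263,4),
    (341,261,4),
    (205,285,3),
    (361,285,4),
    (372,301,3),
    (336,309,0),
    (358,309,3),
    (359,308,4),
    (337,257,1),
    (186,257,3),
    (192,254,2),
    (201,254,4),
    (383,330,3),
    (265,329,2),
    (289,329,4),
    (281,351,2),
    (392,351,4),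
    (150,204,3),
    (284,204,4),
    (386,341,3),
    (258,205,4),
    (384,361,3),
    (144,186,2),
    (155,192,3),
    (343,383,2),
    (364,383,4),
    (211,265,3),
    (118,150,2),
    (387,343,1),
    (288,343,3),
    (363,387,3)]⟩,
  ⟨62,
   [[1],
    [2],
    [0,1,2,3],
    [4,3,2,1,0,1,2,3,4]],
   [(110,62,2),
    (83,62,3),
    (142,110,1),
    (308,110,2),
    (88,110,3),
    (102,83,1),
    (224,83,2),
    (190,142,0),
    (358,142,2),
    (254,142,3),
    (301,308,2),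
    (288,308,3),
    (116,88,1),
    (236,88,2),
    (86,102,0),
    (302,102,2),
    (250,224,2),
    (392,358,1),
    (342,358,2),
    (363,358,3),
    (192,254,1),
    (337,254,2),
    (329,301,2),
    (364,288,1),
    (281,288,2),
    (153,116,0),
    (372,302,2),
    (262,392,2),
    (386,342,2),
    (265,192,0),
    (257,192,2),
    (351,337,2),
    (359,364,2),
    (341,262,1),
    (274,386,2)]⟩,
  ⟨88,
   [[1],
    [2],
    [0,1,2,3,2,1,0,1,2,3,4,3,2,1,0,1,2,3,4]],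
   [(116,88,1),
    (308,88,2),
    (153,116,0),
    (358,116,2),
    (372,308,2),
    (392,358,1)]⟩,
  ⟨8,
   [[1],
    [2,1,0,1,2,3,2,1,0,1,2,3,4,3,2,1,0,1,2,3,4],
    [0,1,2,3,2,1,0,1,2,3,4,3,2,1,0,1,2,3,4,2,4,3,2,1,0,1,2,3,4,3,2,1,0,1,2,3,2,1,0]],
   [(376,8,2),
    (400,376,1)]⟩,
  ⟨4,
   [[1],
    [2,1,0,1,2,3,2,1,0,1,2,3,4,3,2,1,0,1,2,3,4],
    [0,1,2,3,2,1,0,1,2,3,4,3,2,1,0,1,2,3,4,2,4,3,2,1,0,1,2,3,4,3,2,1,0,1,2,3,2,1,0,1,0,1,2,3,2,1,0,1,2,3,4,3,2,1,0,1,2,3,4,2,4,3,2,1,0,1,2,3,4,3,2,1,0,1,2,3,2,1,0]],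
   [(19,4,2)]⟩,
  ⟨227,
   [[1],
    [2,1,0,1,2,3,2,1,0,1,2,3,4,3,2,1,0,1,2,3,4]],
   [(383,227,1)]⟩,
  ⟨1,
   [[1]],
   [(2,1,0)]⟩]

theorem hlev : levsOK pt [0] levels = true := by decide +kernel

end Cfsg.Agent.Lib.TC.D.SuzH.Lev
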