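import Cfsg.Agent.Lib.TC.Enc

namespace Cfsg.Agent.Lib.TC.D.SuzH.XT0

open Cfsg.Agent.Lib.TC.Enc

set_option maxRecDepth 100000

/-- A part of a table. -/
noncomputable def tree : Tr Nat :=
  (Tr.node (Tr.node (Tr.leaf (nat_lit 0x8111863a14000a4050894000a42a9dd4085270002918401184a2a12668000a404088a42787000290000a44111873a84000a4009dc00266e03088002566188d84040d0c68d009188000a40002900235f0002900421ea080441a6c1811a328574c20592c75300225e01187203210898100856c14116000290a9c470002900451860a418127802056007d481011200793889a3e01105102a50869300752401c43006cfc0c10e000290043102080000290000a400029001a3c0002900810c0002928002004a0000290c983a305cdcb14320064ec78b1b8002cb120801838050024000a42a4cb890f261c285d8000000a3005cd40163404001c0153322388c68913400000029001430004cb00122b0300140112918203c809338b8c0040a000f2400388400d1f02000c00c1d000000029000b19002854009110020340070b010004004d0cd8e001828005080010180030400080800100))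
 (Tr.leaf (nat_lit 0x8698e19a20000a40535c411d73033dd8000a40002919a953c498000292a0d8b0435bea0f890285e8000a426802d2dec19f6d0581a4121780345ac08d67000292980344d9106318c000a4000290000a40002900506546098e0648000a4000290000a4033180000a4000290966730d7c000290000a4000290000a4000290000a4a5336681f818a5c000290225770002908a67900029292c430e8f06255c2a568042d68000a4249dd0000a4)))
 (Tr.node (Tr.leaf (nat_lit 0x84d36605fcc656c05254c000a4000290000a4015955128c29c83000290000a40002900c94f00029005551a429cc45f41884a00029022772032d34000a4000292110825795000290148440002900ca48000290053466432095e50000a400029010840000290000a40149098e4628e9f000290000a4041cf4000a4000290000a42313473670000a4000290000a4000290000a40002928b46197860614e4000a4000290000a4000290000a4a233473a7418436000290000a49d2a5c000a41e8162080380080000290000a4000290000a400029071f5442079f4e10000a4000290000a4000290000a41879428600000a4060cc4000a4000290000a400029079d4b81865d3a58000a4050cb4000a40314bc000a41c7115861970e99000290000a4000290000a400029069b4121ba283628000a4000290000a41f95a80832a000292854d0c190000290000a4000290000a40002907a464))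
 (Tr.leaf (nat_lit 0x8698e19a20000a40535c411d73033dd8000a40002919a953c498000292a0d8b0435bea0f890285e8000a426802d2dec19f6d0581a4121780345ac08d67000292980344d9106318c000a4000290000a40002900506546098e0648000a4000290000a4033180000a4000290966730d7c000290000a4000290000a4000290000a4a5336681f818a5c000290225770002908a67900029292c430e8f06255c2a568042d68000a4249dd0000a4))))

end Cfsg.Agent.Lib.TC.D.SuzH.XT0
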